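import Groth.Agent.Cons51.Topo
import Groth.Agent.EtStrat51.Finite
import Groth.Agent.LocConst45.ModPullTriv
import Groth.Prelude.Def_SixF1

/-!
Constructible étale sheaves of modules: manipulation of strata and inverse images.
-/

set_option autoImplicit false
set_option backward.isDefEq.respectTransparency.types false
universe u

open CategoryTheory CategoryTheory.Limits AlgebraicGeometry Topology

namespace Groth.Agent.ModCons93

open Groth.Agent.Cons51 (exists_partition)

variable {X Y : Scheme.{u}}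

variable {Λ : Type (u + 1)} [CommRing Λ]

theorem ftlc_of_iso {F G : EtModW.Mod Λ X} (e : F ≅ G) (h : EtModW.IsFTLocConst Λ F) :
    EtModW.IsFTLocConst Λ G := by
  obtain ⟨ι, U, hU, hF⟩ := h
  refine ⟨ι, U, hU, fun i => ?_⟩
  obtain ⟨M, _, _, hM, ⟨φ⟩⟩ := hF i
  exact ⟨M, inferInstance, inferInstance, hM,
    ⟨((X.smallEtaleTopology.overPullback (ModuleCat.{u + 1} Λ) (U i)).mapIso e).symm ≪≫ φ⟩⟩

/-- `F` is finite locally constant along `E`. -/
def FlcOn (F : EtModW.Mod Λ X) (E : Set X) : Prop :=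
  ∃ (T : Scheme.{u}) (g : T ⟶ X), IsImmersion g ∧ Set.range g = E ∧
    EtModW.IsFTLocConst Λ ((EtModW.pull Λ g).obj F)

theorem FlcOn.isLocallyClosed {F : EtModW.Mod Λ X} {E : Set X} (h : FlcOn F E) : IsLocallyClosed E := by
  obtain ⟨T, g, hg, rfl, -⟩ := h
  exact g.isLocallyClosed_range

theorem FlcOn.mono {F : EtModW.Mod Λ X} {E E' : Set X} (h : FlcOn F E) (hs : E' ⊆ E) (hE' : IsLocallyClosed E') :
    FlcOn F E' := by
  obtain ⟨T, g, hg, rfl, hF⟩ := h
  obtain ⟨T', k, hk, hk'⟩ := EtStrat51.exists_immersion (hE'.preimage g.continuous)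
  refine ⟨T', k ≫ g, inferInstance, ?_,
    ftlc_of_iso ((EtSix.pullModComp Λ k g).app F).symm (LocConst45.Mod.isFTLocConst_pull k hF)⟩
  rw [Scheme.Hom.comp_base, TopCat.coe_comp, Set.range_comp, hk', Set.image_preimage_eq_inter_range,
    Set.inter_eq_left.2 hs]

theorem FlcOn.preimage {F : EtModW.Mod Λ Y} {E : Set Y} (h : FlcOn F E) (f : X ⟶ Y) :
    FlcOn ((EtModW.pull Λ f).obj F) (f ⁻¹' E) := by
  obtain ⟨T, g, hg, rfl, hF⟩ := h
  refine ⟨pullback g f, pullback.snd g f, MorphismProperty.pullback_snd g f hg, Scheme.Pullback.range_snd g f, ?_⟩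
  refine ftlc_of_iso ?_ (LocConst45.Mod.isFTLocConst_pull (pullback.fst g f) hF)
  exact ((EtSix.pullModComp Λ (pullback.fst g f) g).app F).symm ≪≫ (EtSix.pullModCongr Λ pullback.condition).app F ≪≫
    (EtSix.pullModComp Λ (pullback.snd g f) f).app F

theorem FlcOn.image {F : EtModW.Mod Λ Y} {f : X ⟶ Y} [IsImmersion f] {E : Set X}
    (h : FlcOn ((EtModW.pull Λ f).obj F) E) : FlcOn F (f '' E) := by
  obtain ⟨T, g, hg, rfl, hF⟩ := h
  exact ⟨T, g ≫ f, inferInstance, by rw [Scheme.Hom.comp_base, TopCat.coe_comp, Set.range_comp],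
    ftlc_of_iso ((EtSix.pullModComp Λ g f).app F).symm hF⟩

/-- A finite cover of `S` by constructible pieces along which `F` is finite locally constant. -/
def StrataCover (F : EtModW.Mod Λ X) (S : Set X) : Prop :=
  ∃ (ι : Type) (_ : Finite ι) (E : ι → Set X), (∀ i, E i ⊆ S) ∧
    (∀ i, Topology.IsConstructible ((Subtype.val : S → X) ⁻¹' E i)) ∧ (S ⊆ ⋃ i, E i) ∧ ∀ i, FlcOn F (E i)

theorem strataCover_of_adapted {F : EtModW.Mod Λ X} {S : Set X} (h : EtModW.AdaptedStrata Λ F S) : StrataCover F S := by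
  obtain ⟨n, T, g, h1, h2, -, h4, h5⟩ := h
  exact ⟨Fin n, inferInstance, fun i => Set.range (g i), fun i => h4 ▸ Set.subset_iUnion (fun i => Set.range (g i)) i,
    h2, h4.ge, fun i => ⟨T i, g i, h1 i, rfl, h5 i⟩⟩

theorem adapted_of_strataCover {F : EtModW.Mod Λ X} {S : Set X} (hS : IsLocallyClosed S) (h : StrataCover F S) :
    EtModW.AdaptedStrata Λ F S := by
  classical
  obtain ⟨ι, hι, E, hES, hEc, hcov, hflc⟩ := h
  obtain ⟨n, ⟨e⟩⟩ := Finite.exists_equiv_fin ι
  let D : Fin n → Set S := fun i =>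
    (Subtype.val ⁻¹' E (e.symm i)) \ ⋃ j ∈ {j | j < i}, Subtype.val ⁻¹' E (e.symm j)
  have hD : ∀ i, Topology.IsConstructible (D i) := fun i =>
    (hEc _).sdiff (Topology.IsConstructible.biUnion (Set.toFinite _) fun j _ => hEc _)
  choose κ hκ A hA hAd hAu using fun i => exists_partition (hD i)
  have := hκ
  obtain ⟨m, ⟨σ⟩⟩ := Finite.exists_equiv_fin (Σ i, κ i)
  let B : Fin m → Set X := fun k => Subtype.val '' A (σ.symm k).1 (σ.symm k).2
  have hBE : ∀ k, B k ⊆ E (e.symm (σ.symm k).1) := by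
    rintro k _ ⟨z, hz, rfl⟩
    exact ((hAu _).le (Set.mem_iUnion.2 ⟨_, hz⟩)).1
  have hBl : ∀ k, IsLocallyClosed (B k) := fun k =>
    (hA _ _).1.image IsInducing.subtypeVal (by rwa [Subtype.range_val])
  choose T g hg hgr hgF using fun k => (hflc (e.symm (σ.symm k).1)).mono (hBE k) (hBl k)
  refine ⟨m, T, g, hg, fun k => ?_, fun k l hkl => ?_, ?_, fun k => hgF k⟩
  · rw [hgr, Set.preimage_image_eq _ Subtype.val_injective]
    exact (hA _ _).2
  · dsimp only
    rw [hgr, hgr]
    refine (Set.disjoint_image_iff Subtype.val_injective).2 (Set.disjoint_left.2 fun z hz hz' => ?_)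
    have h1 := (hAu _).le (Set.mem_iUnion.2 ⟨_, hz⟩)
    have h2 := (hAu _).le (Set.mem_iUnion.2 ⟨_, hz'⟩)
    rcases lt_trichotomy (σ.symm k).1 (σ.symm l).1 with hlt | heq | hlt
    · exact h2.2 (Set.mem_biUnion (x := (σ.symm k).1) hlt h1.1)
    · rcases hk : σ.symm k with ⟨a, b⟩
      rcases hl : σ.symm l with ⟨a', b'⟩
      rw [hk, hl] at heq
      rw [hk] at hz
      rw [hl] at hz'
      obtain rfl : a = a' := heq
      by_cases hb : b = b'
      · subst hb
        exact hkl (σ.symm.injective (hk.trans hl.symm))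
      · exact Set.disjoint_left.1 (hAd a hb) hz hz'
    · exact h1.2 (Set.mem_biUnion (x := (σ.symm l).1) hlt h2.1)
  · refine subset_antisymm ?_ fun x hx => ?_
    · refine Set.iUnion_subset fun k => ?_
      rw [hgr]
      exact (hBE k).trans (hES _)
    · obtain ⟨i₀, hi₀⟩ := Set.mem_iUnion.1 (hcov hx)
      have hne : (Finset.univ.filter fun i : Fin n => x ∈ E (e.symm i)).Nonempty :=
        ⟨e i₀, by simp [hi₀]⟩
      have hmin := Finset.min'_mem _ hne
      simp only [Finset.mem_filter, Finset.mem_univ, true_and] at hmin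
      have hxD : (⟨x, hx⟩ : S) ∈ D ((Finset.univ.filter fun i : Fin n => x ∈ E (e.symm i)).min' hne) := by
        refine ⟨hmin, ?_⟩
        simp only [Set.mem_iUnion, not_exists]
        intro j (hj : j < _) hxj
        exact absurd (Finset.min'_le _ j (by simpa using hxj)) (not_le.2 hj)
      obtain ⟨c, hc⟩ := Set.mem_iUnion.1 ((hAu _).ge hxD)
      refine Set.mem_iUnion.2 ⟨σ ⟨_, c⟩, ?_⟩
      rw [hgr]
      refine ⟨⟨x, hx⟩, ?_, rfl⟩
      rw [Equiv.symm_apply_apply]
      exact hc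

/-- Restriction to an open subset. -/
theorem StrataCover.mono_open {F : EtModW.Mod Λ X} {S S' : Set X} (h : StrataCover F S) (hs : S' ⊆ S)
    (hS' : IsOpen S') : StrataCover F S' := by
  obtain ⟨ι, hι, E, hES, hEc, hcov, hflc⟩ := h
  refine ⟨ι, hι, fun i => E i ∩ S', fun i => Set.inter_subset_right, fun i => ?_, fun x hx => ?_,
    fun i => (hflc i).mono Set.inter_subset_left ((hflc i).isLocallyClosed.inter hS'.isLocallyClosed)⟩
  · have hoe : IsOpenEmbedding (Set.inclusion hs) :=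
      ⟨IsEmbedding.inclusion hs, by rw [Set.range_inclusion]; exact hS'.preimage continuous_subtype_val⟩
    have := (hEc i).preimage_of_isOpenEmbedding hoe
    convert this using 1
    ext z
    exact ⟨fun hz => hz.1, fun hz => ⟨hz, z.2⟩⟩
  · obtain ⟨i, hi⟩ := Set.mem_iUnion.1 (hcov (hs hx))
    exact Set.mem_iUnion.2 ⟨i, hi, hx⟩

/-- Glue along finitely many quasi-compact opens. -/
theorem strataCover_of_finite_cover {F : EtModW.Mod Λ X} {S : Set X} [QuasiSeparatedSpace S] {κ : Type*} [Finite κ]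
    (V : κ → Set X) (hV : ∀ k, IsOpen (V k)) (hVc : ∀ k, IsCompact (V k)) (hVS : ∀ k, V k ⊆ S)
    (hcov : S ⊆ ⋃ k, V k) (h : ∀ k, StrataCover F (V k)) : StrataCover F S := by
  choose ι hι E hES hEc hEcov hflc using h
  obtain ⟨n, ⟨e⟩⟩ := Finite.exists_equiv_fin κ
  have := hι
  refine ⟨Σ j : Fin n, ι (e.symm j), inferInstance, fun p => E (e.symm p.1) p.2,
    fun p => (hES _ _).trans (hVS _), fun p => ?_, fun x hx => ?_, fun p => hflc _ _⟩
  · obtain ⟨j, i⟩ := p
    have hoe : IsOpenEmbedding (Set.inclusion (hVS (e.symm j))) :=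
      ⟨IsEmbedding.inclusion _, by rw [Set.range_inclusion]; exact (hV _).preimage continuous_subtype_val⟩
    have hr : IsRetrocompact (Set.range (Set.inclusion (hVS (e.symm j)))) := by
      have hcs : CompactSpace (V (e.symm j)) := isCompact_iff_compactSpace.1 (hVc _)
      exact (isCompact_range hoe.continuous).isRetrocompact hoe.isOpen_range
    have := (hEc (e.symm j) i).image_of_isOpenEmbedding hoe hr
    convert this using 1
    ext z
    constructor
    · exact fun hz => ⟨⟨z.1, hES _ _ hz⟩, hz, rfl⟩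
    · rintro ⟨w, hw, rfl⟩; exact hw
  · obtain ⟨k, hk⟩ := Set.mem_iUnion.1 (hcov hx)
    obtain ⟨j, rfl⟩ := e.symm.surjective k
    obtain ⟨i, hi⟩ := Set.mem_iUnion.1 (hEcov _ hk)
    exact Set.mem_iUnion.2 ⟨⟨j, i⟩, hi⟩

/-- A quasi-compact, quasi-separated open covered by opens with strata has strata. -/
theorem strataCover_of_nhds {F : EtModW.Mod Λ X} {S : Set X} (hSo : IsOpen S) (hSc : IsCompact S)
    [QuasiSeparatedSpace S] (h : ∀ x ∈ S, ∃ W : Set X, IsOpen W ∧ x ∈ W ∧ StrataCover F W) :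
    StrataCover F S := by
  have : ∀ x : S, ∃ V : Set X, IsOpen V ∧ IsCompact V ∧ x.1 ∈ V ∧ V ⊆ S ∧ StrataCover F V := fun x => by
    obtain ⟨W, hWo, hxW, hW⟩ := h x.1 x.2
    obtain ⟨_, ⟨O, hO, rfl⟩, hxO, hOW⟩ :=
      X.isBasis_affineOpens.exists_subset_of_mem_open (show x.1 ∈ W ∩ S from ⟨hxW, x.2⟩) (hWo.inter hSo)
    exact ⟨O, O.2, hO.isCompact, hxO, fun y hy => (hOW hy).2, hW.mono_open (fun y hy => (hOW hy).1) O.2⟩
  choose V hVo hVc hxV hVS hV using this
  obtain ⟨L, hL⟩ := hSc.elim_finite_subcover V hVo (fun x hx => Set.mem_iUnion.2 ⟨⟨x, hx⟩, hxV _⟩)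
  refine strataCover_of_finite_cover (fun l : L => V l.1) (fun l => hVo _) (fun l => hVc _) (fun l => hVS _)
    (fun x hx => ?_) fun l => hV _
  obtain ⟨l, hl, hxl⟩ := Set.mem_iUnion₂.1 (hL hx)
  exact Set.mem_iUnion.2 ⟨⟨l, hl⟩, hxl⟩

theorem quasiSeparatedSpace_of_affine {U : X.Opens} (hU : IsAffineOpen U) : QuasiSeparatedSpace (U : Set X) := by
  have : IsAffine U.toScheme := hU
  exact inferInstanceAs (QuasiSeparatedSpace U.toScheme)

/-- Constructibility is local. -/
theorem isConstructible_of_nhds (F : EtModW.Mod Λ X)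
    (h : ∀ x : X, ∃ W : Set X, IsOpen W ∧ x ∈ W ∧ StrataCover F W) : EtModW.IsConstructible Λ F := by
  intro U hU
  have := quasiSeparatedSpace_of_affine hU
  exact adapted_of_strataCover U.2.isLocallyClosed
    (strataCover_of_nhds U.2 hU.isCompact fun x _ => h x)

/-- Inverse images of constructible sheaves of modules are constructible. -/
theorem isConstructible_pull (f : X ⟶ Y) {F : EtModW.Mod Λ Y} (hF : EtModW.IsConstructible Λ F) :
    EtModW.IsConstructible Λ ((EtModW.pull Λ f).obj F) := by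
  refine isConstructible_of_nhds _ fun x => ?_
  obtain ⟨_, ⟨V₀, hV, rfl⟩, hxV, -⟩ :=
    Y.isBasis_affineOpens.exists_subset_of_mem_open (a := f x) (u := Set.univ) trivial isOpen_univ
  let V : Y.Opens := V₀
  obtain ⟨ι, hι, E, hES, hEc, hcov, hflc⟩ := strataCover_of_adapted (hF V hV)
  obtain ⟨W, hW, hxW, hWV⟩ := exists_isAffineOpen_mem_and_subset (X := X) (x := x) (U := f ⁻¹ᵁ V) hxV
  refine ⟨W, W.2, hxW, ι, hι, fun i => f ⁻¹' E i ∩ W, fun i => Set.inter_subset_right, fun i => ?_, fun w hw => ?_,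
    fun i => ((hflc i).preimage f).mono Set.inter_subset_left
      (((hflc i).isLocallyClosed.preimage f.continuous).inter W.2.isLocallyClosed)⟩
  · have : IsAffine W.toScheme := hW
    have : IsAffine V.toScheme := hV
    have : CompactSpace (V : Set Y) := isCompact_iff_compactSpace.1 hV.isCompact
    have : QuasiSeparatedSpace (W : Set X) := quasiSeparatedSpace_of_affine hW
    let g := f.resLE V W hWV
    let g' : ↥(W : Set X) → ↥(V : Set Y) := fun w => ⟨f w.1, hWV w.2⟩
    have hg : ∀ w : W.toScheme, g w = g' w := fun w =>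
      V.ι.isOpenEmbedding.injective (by rw [← Scheme.Hom.comp_apply, Scheme.Hom.resLE_comp_ι]; rfl)
    have := Groth.Agent.Cons51.isConstructible_preimage (f := g')
      (f.continuous.comp continuous_subtype_val |>.subtype_mk _)
      (fun O ho hc => by
        have h := QuasiCompact.isCompact_preimage (f := g) O ho hc
        rw [funext hg] at h
        exact h) (hEc i)
    convert this using 1
    ext z
    exact ⟨fun hz => hz.1, fun hz => ⟨hz, z.2⟩⟩
  · obtain ⟨i, hi⟩ := Set.mem_iUnion.1 (hcov (hWV hw))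
    exact Set.mem_iUnion.2 ⟨i, hi, hw⟩

theorem isConstructible_of_iso {F G : EtModW.Mod Λ X} (e : F ≅ G) (hF : EtModW.IsConstructible Λ F) :
    EtModW.IsConstructible Λ G := fun U hU => by
  obtain ⟨n, T, g, h1, h2, h3, h4, h5⟩ := hF U hU
  exact ⟨n, T, g, h1, h2, h3, h4, fun i => ftlc_of_iso ((EtModW.pull Λ (g i)).mapIso e) (h5 i)⟩

end Groth.Agent.ModCons93
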